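import Mathlib
import Cfsg.Agent.Helper80.CharBasic
import Cfsg.Agent.Helper79.CharComplete
import Cfsg.Prelude.Def_Characters

set_option autoImplicit false

/-!
# Fields of values and conjugacy of powers (helper82, for S4923)

For `g` with `g ^ N = 1` the field `ℚ(χ g : χ ∈ Irr G)` lies in the cyclotomic field `ℚ(ω)`
(`ω` a primitive `N`-th root of unity) and is the fixed field of `{k : g ^ k ∼ g}`.
-/

namespace Cfsg.Agent.Helper82.FV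

open IntermediateField Polynomial Cfsg

section Cyclo

variable {N : ℕ} [NeZero N] {ω : ℂ}

theorem root_mem (hω : IsPrimitiveRoot ω N) {μ : ℂ} (hμ : μ ^ N = 1) : μ ∈ ℚ⟮ω⟯ := by
  obtain ⟨j, _, rfl⟩ := hω.eq_pow_of_pow_eq_one hμ
  exact pow_mem (mem_adjoin_simple_self ℚ ω) j

theorem gen_primitive (hω : IsPrimitiveRoot ω N) :
    IsPrimitiveRoot (AdjoinSimple.gen ℚ ω) N := by
  have h : IsPrimitiveRoot ((algebraMap ℚ⟮ω⟯ ℂ) (AdjoinSimple.gen ℚ ω)) N := by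
    rw [AdjoinSimple.algebraMap_gen]; exact hω
  exact h.of_map_of_injective (algebraMap ℚ⟮ω⟯ ℂ).injective

/-- every automorphism of `ℚ(ω)` raises the `N`-th roots of unity to a `k`-th power. -/
theorem aut_pow (hω : IsPrimitiveRoot ω N) (σ : ℚ⟮ω⟯ ≃ₐ[ℚ] ℚ⟮ω⟯) :
    ∃ k : ℕ, k.Coprime N ∧ ∀ e : ℚ⟮ω⟯, (e : ℂ) ^ N = 1 → ((σ e : ℚ⟮ω⟯) : ℂ) = (e : ℂ) ^ k := by
  have hg := gen_primitive hω
  refine ⟨(hg.autToPow ℚ σ : ZMod N).val, ZMod.val_coe_unit_coprime _, fun e he => ?_⟩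
  have hspec := hg.autToPow_spec ℚ σ
  obtain ⟨j, _, hj⟩ := hω.eq_pow_of_pow_eq_one he
  have hej : e = (AdjoinSimple.gen ℚ ω) ^ j := by
    apply Subtype.ext
    rw [← hj]
    simp
  have h1 : σ e = (AdjoinSimple.gen ℚ ω) ^ ((hg.autToPow ℚ σ : ZMod N).val * j) := by
    rw [hej, map_pow, ← hspec, ← pow_mul]
  rw [h1, ← hj]
  simp [← pow_mul, mul_comm]

theorem cyclo_inst (hω : IsPrimitiveRoot ω N) : IsCyclotomicExtension {N} ℚ ℚ⟮ω⟯ := by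
  have halg : IsAlgebraic ℚ ω := ((hω.isIntegral (NeZero.pos N)).tower_top).isAlgebraic
  change IsCyclotomicExtension {N} ℚ (IntermediateField.adjoin ℚ {ω}).toSubalgebra
  rw [IntermediateField.adjoin_simple_toSubalgebra_of_isAlgebraic halg]
  exact hω.adjoin_isCyclotomicExtension ℚ

/-- for each `k` coprime to `N` there is such an automorphism. -/
theorem exists_aut_pow (hω : IsPrimitiveRoot ω N) (k : ℕ) (hk : k.Coprime N) :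
    ∃ σ : ℚ⟮ω⟯ ≃ₐ[ℚ] ℚ⟮ω⟯,
      ∀ e : ℚ⟮ω⟯, (e : ℂ) ^ N = 1 → ((σ e : ℚ⟮ω⟯) : ℂ) = (e : ℂ) ^ k := by
  have : IsCyclotomicExtension {N} ℚ ℚ⟮ω⟯ := cyclo_inst hω
  have hirr : Irreducible (cyclotomic N ℚ) := cyclotomic.irreducible_rat (NeZero.pos N)
  let z : ℚ⟮ω⟯ := IsCyclotomicExtension.zeta N ℚ ℚ⟮ω⟯
  have hz : IsPrimitiveRoot z N := IsCyclotomicExtension.zeta_spec N ℚ ℚ⟮ω⟯
  let σ : ℚ⟮ω⟯ ≃ₐ[ℚ] ℚ⟮ω⟯ := IsCyclotomicExtension.fromZetaAut (hz.pow_of_coprime k hk) hirr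
  have hσ : σ z = z ^ k := IsCyclotomicExtension.fromZetaAut_spec (hz.pow_of_coprime k hk) hirr
  refine ⟨σ, fun e he => ?_⟩
  have he' : e ^ N = 1 := by
    apply Subtype.ext
    simpa using he
  obtain ⟨j, _, hj⟩ := hz.eq_pow_of_pow_eq_one he'
  rw [← hj, map_pow, hσ]
  simp [← pow_mul, mul_comm]

theorem rootsum_mem (hω : IsPrimitiveRoot ω N) {ι : Type*} [Fintype ι] (μ : ι → ℂ)
    (hμ : ∀ i, μ i ^ N = 1) (k : ℕ) : ∑ i, μ i ^ k ∈ ℚ⟮ω⟯ :=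
  sum_mem (fun i _ => pow_mem (root_mem hω (hμ i)) k)

theorem aut_rootsum (hω : IsPrimitiveRoot ω N) (σ : ℚ⟮ω⟯ ≃ₐ[ℚ] ℚ⟮ω⟯) (k : ℕ)
    (hσ : ∀ e : ℚ⟮ω⟯, (e : ℂ) ^ N = 1 → ((σ e : ℚ⟮ω⟯) : ℂ) = (e : ℂ) ^ k)
    {ι : Type*} [Fintype ι] (μ : ι → ℂ) (hμ : ∀ i, μ i ^ N = 1) (x : ℚ⟮ω⟯)
    (hx : (x : ℂ) = ∑ i, μ i) : ((σ x : ℚ⟮ω⟯) : ℂ) = ∑ i, μ i ^ k := by
  have hx' : x = ∑ i, (⟨μ i, root_mem hω (hμ i)⟩ : ℚ⟮ω⟯) := by
    apply Subtype.ext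
    rw [hx]
    simp
  rw [hx', map_sum]
  simp only [AddSubmonoidClass.coe_finsetSum]
  refine Finset.sum_congr rfl (fun i _ => ?_)
  exact hσ _ (hμ i)

end Cyclo

section Main

variable {G : Type*} [Group G] [Finite G]

theorem aut_char {N : ℕ} [NeZero N] {ω : ℂ} (hω : IsPrimitiveRoot ω N)
    (σ : ℚ⟮ω⟯ ≃ₐ[ℚ] ℚ⟮ω⟯) (k : ℕ)
    (hσ : ∀ e : ℚ⟮ω⟯, (e : ℂ) ^ N = 1 → ((σ e : ℚ⟮ω⟯) : ℂ) = (e : ℂ) ^ k)
    {χ : G → ℂ} (hχ : IsCharacter G χ) (g : G) (hg : g ^ N = 1) :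
    χ g ∈ ℚ⟮ω⟯ ∧ ∀ x : ℚ⟮ω⟯, (x : ℂ) = χ g → ((σ x : ℚ⟮ω⟯) : ℂ) = χ (g ^ k) := by
  obtain ⟨n, ρ, rfl⟩ := hχ
  obtain ⟨b, μ, -, h2, -, h4⟩ :=
    Cfsg.Agent.Helper80.exists_eigen_data_rep ρ g (isOfFinOrder_of_finite g)
  have h41 := h4 1
  simp only [pow_one] at h41
  have hμ : ∀ i, μ i ^ N = 1 := by
    intro i
    obtain ⟨c, hc⟩ := orderOf_dvd_of_pow_eq_one hg
    rw [hc, pow_mul, h2, one_pow]
  constructor
  · rw [h41]
    have := rootsum_mem hω μ hμ 1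
    simpa using this
  · intro x hx
    rw [h4]
    exact aut_rootsum hω σ k hσ μ hμ x (hx.trans h41)

/-- Galois criterion for membership in an intermediate field. -/
theorem mem_of_forall_fixed {E : Type*} [Field E] [Algebra ℚ E] [FiniteDimensional ℚ E]
    [IsGalois ℚ E] (A : IntermediateField ℚ E) (x : E)
    (h : ∀ σ : E ≃ₐ[ℚ] E, (∀ a ∈ A, σ a = a) → σ x = x) : x ∈ A := by
  rw [← IsGalois.fixedField_fixingSubgroup A, IntermediateField.mem_fixedField_iff]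
  intro σ hσ
  exact h σ (fun a ha => (IntermediateField.mem_fixingSubgroup_iff A σ).1 hσ a ha)

theorem fixes_adjoin {E : Type*} [Field E] [Algebra ℚ E] (S : Set E) (σ : E ≃ₐ[ℚ] E)
    (h : ∀ s ∈ S, σ s = s) : ∀ a ∈ adjoin ℚ S, σ a = a := by
  intro a ha
  induction ha using IntermediateField.adjoin_induction with
  | mem x hx => exact h x hx
  | algebraMap x => exact σ.commutes x
  | add x y _ _ hx hy => rw [map_add, hx, hy]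
  | inv x _ hx => rw [map_inv₀, hx]
  | mul x y _ _ hx hy => rw [map_mul, hx, hy]

/-- **Field of values criterion.** -/
theorem adjoin_values_eq_iff (N : ℕ) [NeZero N] (g : G) (hg : g ^ N = 1)
    {ι : Type*} [Fintype ι] (μ : ι → ℂ) (hμ : ∀ i, μ i ^ N = 1) :
    IntermediateField.adjoin ℚ {z : ℂ | ∃ χ : IrrCharacter G, (χ : G → ℂ) g = z} =
        IntermediateField.adjoin ℚ ({∑ i, μ i} : Set ℂ) ↔
      ∀ k : ℕ, k.Coprime N → (IsConj (g ^ k) g ↔ ∑ i, μ i ^ k = ∑ i, μ i) := by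
  classical
  have := Fintype.ofFinite G
  set ω : ℂ := Complex.exp (2 * Real.pi * Complex.I / N) with hωdef
  have hω : IsPrimitiveRoot ω N := Complex.isPrimitiveRoot_exp N (NeZero.ne N)
  have hcyc : IsCyclotomicExtension {N} ℚ ℚ⟮ω⟯ := cyclo_inst hω
  have hfd : FiniteDimensional ℚ ℚ⟮ω⟯ := IsCyclotomicExtension.finiteDimensional {N} ℚ ℚ⟮ω⟯
  have hgal : IsGalois ℚ ℚ⟮ω⟯ := IsCyclotomicExtension.isGalois {N} ℚ ℚ⟮ω⟯
  set X : Set ℂ := {z : ℂ | ∃ χ : IrrCharacter G, (χ : G → ℂ) g = z} with hX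
  set s : ℂ := ∑ i, μ i with hs
  have hsE : s ∈ ℚ⟮ω⟯ := by
    have := rootsum_mem hω μ hμ 1
    simpa using this
  have hirrchar : ∀ χ : IrrCharacter G, IsCharacter G (χ : G → ℂ) := by
    intro χ
    obtain ⟨n, ρ, _, h⟩ := χ.2
    exact ⟨n, ρ, h⟩
  have hXE : ∀ z ∈ X, z ∈ ℚ⟮ω⟯ := by
    rintro z ⟨χ, rfl⟩
    obtain ⟨σ, hσ⟩ := exists_aut_pow hω 1 (Nat.coprime_one_left N)
    exact (aut_char hω σ 1 hσ (hirrchar χ) g hg).1
  let XE : Set ℚ⟮ω⟯ := {e | (e : ℂ) ∈ X}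
  let sE : ℚ⟮ω⟯ := ⟨s, hsE⟩
  let v : ↥ℚ⟮ω⟯ →ₐ[ℚ] ℂ := (algebraMap ↥ℚ⟮ω⟯ ℂ).toRatAlgHom
  have hv : ∀ e : ℚ⟮ω⟯, v e = (e : ℂ) := fun e => rfl
  have key1 : adjoin ℚ X = (adjoin ℚ XE).map v := by
    rw [adjoin_map]
    congr 1
    ext z
    constructor
    · intro hz
      exact ⟨⟨z, hXE z hz⟩, hz, rfl⟩
    · rintro ⟨e, he, rfl⟩
      exact he
  have key2 : adjoin ℚ ({s} : Set ℂ) = (adjoin ℚ ({sE} : Set ℚ⟮ω⟯)).map v := by
    rw [adjoin_map]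
    congr 1
    rw [Set.image_singleton]
    rfl
  have key : adjoin ℚ X = adjoin ℚ ({s} : Set ℂ) ↔ adjoin ℚ XE = adjoin ℚ ({sE} : Set ℚ⟮ω⟯) := by
    rw [key1, key2]
    exact (IntermediateField.map_injective v).eq_iff
  rw [key]
  -- translation of the two "fixing" conditions
  have fixX : ∀ (σ : ℚ⟮ω⟯ ≃ₐ[ℚ] ℚ⟮ω⟯) (k : ℕ),
      (∀ e : ℚ⟮ω⟯, (e : ℂ) ^ N = 1 → ((σ e : ℚ⟮ω⟯) : ℂ) = (e : ℂ) ^ k) →
      ((∀ e ∈ XE, σ e = e) ↔ IsConj (g ^ k) g) := by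
    intro σ k hσ
    rw [Cfsg.Agent.Helper79.isConj_iff_forall_irr_eq]
    constructor
    · intro h χ
      have hmem := (aut_char hω σ k hσ (hirrchar χ) g hg)
      have h1 := hmem.2 ⟨_, hmem.1⟩ rfl
      have h2 := h ⟨_, hmem.1⟩ ⟨χ, rfl⟩
      rw [h2] at h1
      exact h1.symm
    · rintro h e ⟨χ, hχ⟩
      have hmem := (aut_char hω σ k hσ (hirrchar χ) g hg)
      have h1 := hmem.2 e hχ.symm
      apply Subtype.ext
      rw [h1, h χ, hχ]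
  have fixs : ∀ (σ : ℚ⟮ω⟯ ≃ₐ[ℚ] ℚ⟮ω⟯) (k : ℕ),
      (∀ e : ℚ⟮ω⟯, (e : ℂ) ^ N = 1 → ((σ e : ℚ⟮ω⟯) : ℂ) = (e : ℂ) ^ k) →
      (σ sE = sE ↔ ∑ i, μ i ^ k = ∑ i, μ i) := by
    intro σ k hσ
    have h1 := aut_rootsum hω σ k hσ μ hμ sE rfl
    constructor
    · intro h
      rw [← h1, h]
    · intro h
      apply Subtype.ext
      rw [h1, h]
  constructor
  · intro hAB k hk
    obtain ⟨σ, hσ⟩ := exists_aut_pow hω k hk
    rw [← fixX σ k hσ, ← fixs σ k hσ]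
    constructor
    · intro h
      have h2 := fixes_adjoin XE σ h
      rw [hAB] at h2
      exact h2 sE (subset_adjoin ℚ _ (Set.mem_singleton _))
    · intro h e he
      have h2 := fixes_adjoin ({sE} : Set ℚ⟮ω⟯) σ (by
        intro t ht
        rw [Set.mem_singleton_iff] at ht
        rw [ht]; exact h)
      rw [← hAB] at h2
      exact h2 e (subset_adjoin ℚ _ he)
  · intro hall
    apply le_antisymm
    · rw [adjoin_le_iff]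
      intro e he
      apply mem_of_forall_fixed
      intro σ hσfix
      obtain ⟨k, hk, hσ⟩ := aut_pow hω σ
      have h1 : σ sE = sE := hσfix sE (subset_adjoin ℚ _ (Set.mem_singleton _))
      have h2 := (fixs σ k hσ).1 h1
      have h3 := (hall k hk).2 h2
      exact (fixX σ k hσ).2 h3 e he
    · rw [adjoin_le_iff]
      intro t ht
      rw [Set.mem_singleton_iff] at ht
      rw [ht]
      apply mem_of_forall_fixed
      intro σ hσfix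
      obtain ⟨k, hk, hσ⟩ := aut_pow hω σ
      have h1 : ∀ e ∈ XE, σ e = e := fun e he => hσfix e (subset_adjoin ℚ _ he)
      have h2 := (fixX σ k hσ).1 h1
      exact (fixs σ k hσ).2 ((hall k hk).1 h2)

end Main

end Cfsg.Agent.Helper82.FV
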