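import Cfsg.Agent.Helper82.FV.Field

set_option autoImplicit false

/-!
# The fields `ℚ(ζ ± ζ⁻¹)` for `ζ` a primitive `2^(n-1)`-th root of unity (helper82, for S4923)
-/

namespace Cfsg.Agent.Helper82.FV

open IntermediateField Cfsg

section

variable {G : Type*} [Group G] [Finite G]

theorem coprime_two_pow_iff (n : ℕ) (hn : 1 ≤ n) (k : ℕ) : k.Coprime (2 ^ n) ↔ Odd k := by
  rw [Nat.coprime_pow_right_iff (by omega), Nat.coprime_two_right]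

theorem zeta_pow_eq_iff {n : ℕ} {ζ : ℂ} (hζ : IsPrimitiveRoot ζ (2 ^ (n - 1))) (a b : ℕ) :
    ζ ^ a = ζ ^ b ↔ a ≡ b [MOD 2 ^ (n - 1)] := by
  have hfin : IsOfFinOrder ζ :=
    isOfFinOrder_iff_pow_eq_one.2 ⟨2 ^ (n - 1), by positivity, hζ.pow_eq_one⟩
  rw [hfin.pow_eq_pow_iff_modEq, ← hζ.eq_orderOf]

theorem zeta_half {n : ℕ} (hn : 2 ≤ n) {ζ : ℂ} (hζ : IsPrimitiveRoot ζ (2 ^ (n - 1))) :
    ζ ^ (2 ^ (n - 2)) = -1 := by
  have h2 : 2 ^ (n - 1) = 2 ^ (n - 2) * 2 := by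
    rw [← pow_succ]; congr 1; omega
  have := hζ.pow (by positivity) h2
  exact this.eq_neg_one_of_two_right

theorem field_plus (n : ℕ) (hn : 2 ≤ n) (g : G) (hg : g ^ (2 ^ n) = 1) (ζ : ℂ)
    (hζ : IsPrimitiveRoot ζ (2 ^ (n - 1))) :
    IntermediateField.adjoin ℚ {z : ℂ | ∃ χ : IrrCharacter G, (χ : G → ℂ) g = z} =
        IntermediateField.adjoin ℚ ({ζ + ζ⁻¹} : Set ℂ) ↔
      ∀ k : ℕ, Odd k → (IsConj (g ^ k) g ↔
        (k ≡ 1 [MOD 2 ^ (n - 1)] ∨ k + 1 ≡ 0 [MOD 2 ^ (n - 1)])) := by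
  have hNZ : NeZero (2 ^ n) := ⟨by positivity⟩
  have hζ0 : ζ ≠ 0 := hζ.ne_zero (by positivity)
  have hζN : ζ ^ (2 ^ n) = 1 := by
    have h2 : 2 ^ n = 2 ^ (n - 1) * 2 := by rw [← pow_succ]; congr 1; omega
    rw [h2, pow_mul, hζ.pow_eq_one, one_pow]
  have hμ : ∀ i : Fin 2, (![ζ, ζ⁻¹] : Fin 2 → ℂ) i ^ (2 ^ n) = 1 := by
    intro i
    fin_cases i
    · simpa using hζN
    · simp [inv_pow, hζN]
  have key := adjoin_values_eq_iff (2 ^ n) g hg (![ζ, ζ⁻¹] : Fin 2 → ℂ) hμ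
  simp only [Fin.sum_univ_two, Matrix.cons_val_zero, Matrix.cons_val_one] at key
  rw [key]
  refine forall_congr' (fun k => ?_)
  rw [coprime_two_pow_iff n (by omega) k]
  refine imp_congr_right (fun _ => ?_)
  refine iff_congr Iff.rfl ?_
  have hk0 : ζ ^ k ≠ 0 := pow_ne_zero _ hζ0
  have e1 : ζ ^ k + ζ⁻¹ ^ k = ζ + ζ⁻¹ ↔ (ζ ^ k = ζ ∨ ζ ^ k * ζ = 1) := by
    rw [inv_pow]
    constructor
    · intro h
      have h2 : (ζ ^ k - ζ) * (ζ ^ k * ζ - 1) = 0 := by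
        field_simp at h
        linear_combination h
      rcases mul_eq_zero.1 h2 with h3 | h3
      · exact Or.inl (sub_eq_zero.1 h3)
      · exact Or.inr (sub_eq_zero.1 h3)
    · rintro (h | h)
      · rw [h]
      · have h4 : ζ⁻¹ = ζ ^ k := (eq_inv_of_mul_eq_one_left h).symm
        have h3 : (ζ ^ k)⁻¹ = ζ := by rw [← h4, inv_inv]
        rw [h3, h4]; ring
  rw [e1]
  have e2 : ζ ^ k = ζ ↔ k ≡ 1 [MOD 2 ^ (n - 1)] := by
    conv_lhs => rw [← pow_one ζ, ← pow_mul, one_mul]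
    exact zeta_pow_eq_iff hζ k 1
  have e3 : ζ ^ k * ζ = 1 ↔ k + 1 ≡ 0 [MOD 2 ^ (n - 1)] := by
    rw [← pow_succ, hζ.pow_eq_one_iff_dvd, Nat.modEq_zero_iff_dvd]
  rw [e2, e3]

theorem field_minus (n : ℕ) (hn : 2 ≤ n) (g : G) (hg : g ^ (2 ^ n) = 1) (ζ : ℂ)
    (hζ : IsPrimitiveRoot ζ (2 ^ (n - 1))) :
    IntermediateField.adjoin ℚ {z : ℂ | ∃ χ : IrrCharacter G, (χ : G → ℂ) g = z} =
        IntermediateField.adjoin ℚ ({ζ - ζ⁻¹} : Set ℂ) ↔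
      ∀ k : ℕ, Odd k → (IsConj (g ^ k) g ↔
        (k ≡ 1 [MOD 2 ^ (n - 1)] ∨ k + 1 ≡ 2 ^ (n - 2) [MOD 2 ^ (n - 1)])) := by
  have hNZ : NeZero (2 ^ n) := ⟨by positivity⟩
  have hζ0 : ζ ≠ 0 := hζ.ne_zero (by positivity)
  have hζN : ζ ^ (2 ^ n) = 1 := by
    have h2 : 2 ^ n = 2 ^ (n - 1) * 2 := by rw [← pow_succ]; congr 1; omega
    rw [h2, pow_mul, hζ.pow_eq_one, one_pow]
  have heven : Even (2 ^ n) := by
    rw [Nat.even_pow]; exact ⟨even_two, by omega⟩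
  have hμ : ∀ i : Fin 2, (![ζ, -ζ⁻¹] : Fin 2 → ℂ) i ^ (2 ^ n) = 1 := by
    intro i
    fin_cases i
    · simpa using hζN
    · simp [heven.neg_pow, inv_pow, hζN]
  have key := adjoin_values_eq_iff (2 ^ n) g hg (![ζ, -ζ⁻¹] : Fin 2 → ℂ) hμ
  simp only [Fin.sum_univ_two, Matrix.cons_val_zero, Matrix.cons_val_one, ← sub_eq_add_neg] at key
  rw [key]
  refine forall_congr' (fun k => ?_)
  rw [coprime_two_pow_iff n (by omega) k]
  refine imp_congr_right (fun hkodd => ?_)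
  refine iff_congr Iff.rfl ?_
  have hk0 : ζ ^ k ≠ 0 := pow_ne_zero _ hζ0
  have e1 : ζ ^ k + (-ζ⁻¹) ^ k = ζ - ζ⁻¹ ↔ (ζ ^ k = ζ ∨ ζ ^ k * ζ = -1) := by
    rw [hkodd.neg_pow, inv_pow]
    constructor
    · intro h
      have h2 : (ζ ^ k - ζ) * (ζ ^ k * ζ + 1) = 0 := by
        field_simp at h
        linear_combination h
      rcases mul_eq_zero.1 h2 with h3 | h3
      · exact Or.inl (sub_eq_zero.1 h3)
      · exact Or.inr (eq_neg_of_add_eq_zero_left h3)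
    · rintro (h | h)
      · rw [h]; ring
      · have h3 : (ζ ^ k)⁻¹ = -ζ := by
          rw [inv_eq_iff_eq_inv, ← neg_inv]
          field_simp
          linear_combination h
        have h4 : ζ⁻¹ = -ζ ^ k := by
          have h5 : ζ = -(ζ ^ k)⁻¹ := by rw [h3, neg_neg]
          rw [h5, inv_neg, inv_inv, ← h5]
        rw [h3, h4]; ring
  rw [e1]
  have e2 : ζ ^ k = ζ ↔ k ≡ 1 [MOD 2 ^ (n - 1)] := by
    conv_lhs => rw [← pow_one ζ, ← pow_mul, one_mul]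
    exact zeta_pow_eq_iff hζ k 1
  have e3 : ζ ^ k * ζ = -1 ↔ k + 1 ≡ 2 ^ (n - 2) [MOD 2 ^ (n - 1)] := by
    rw [← pow_succ, ← zeta_half hn hζ]
    exact zeta_pow_eq_iff hζ (k + 1) (2 ^ (n - 2))
  rw [e2, e3]

end

end Cfsg.Agent.Helper82.FV
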