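import Mathlib
import Cfsg.Agent.Helper49.FVF1
import Cfsg.Agent.Helper10.FVF2

set_option autoImplicit false

/-!
# Group side of S4923, forward direction (helper82): assembly of helper49's (G-F1) and
helper10's (G-F2).
-/

namespace Cfsg.Agent.Helper82.FV

/-- If `[P : P'] = 4` there is `g ∈ P` of even class size whose conjugate powers are exactly the
`k ≡ ±1` (resp. `k ≡ 1, -1 + 2^(n-2)`) modulo `2^(n-1)`. -/
theorem exists_of_index_four {G : Type*} [Group G] [Finite G] (P : Sylow 2 G) (n : ℕ) (hn : 3 ≤ n)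
    (hP : Nat.card P = 2 ^ n) (h4 : (commutator ↥P).index = 4) :
    ∃ g : G, g ∈ (P : Subgroup G) ∧ 2 ∣ (Subgroup.centralizer ({g} : Set G)).index ∧
      ((∀ k : ℕ, Odd k → (IsConj (g ^ k) g ↔
            (k ≡ 1 [MOD 2 ^ (n - 1)] ∨ k + 1 ≡ 0 [MOD 2 ^ (n - 1)]))) ∨
       (∀ k : ℕ, Odd k → (IsConj (g ^ k) g ↔
            (k ≡ 1 [MOD 2 ^ (n - 1)] ∨ k + 1 ≡ 2 ^ (n - 2) [MOD 2 ^ (n - 1)])))) := by
  obtain ⟨g, x, r, hog, hr, hne, hrr⟩ :=
    Cfsg.Agent.Helper49.FVF1.exists_gen_of_index_four (P := ↥P) n hn hP h4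
  have hog' : orderOf (g : G) = 2 ^ (n - 1) := by rw [Subgroup.orderOf_coe]; exact hog
  have hr' : (x : G) * (g : G) * (x : G)⁻¹ = (g : G) ^ r := by
    have := congrArg (Subtype.val) hr
    simpa using this
  have hne' : (g : G) ^ r ≠ (g : G) := by
    intro h
    apply hne
    apply Subtype.ext
    simpa using h
  obtain ⟨h2, hk⟩ :=
    Cfsg.Agent.Helper10.FV.conj_pow_iff P n hn hP (g : G) (x : G) g.2 x.2 hog' r hr' hne'
  refine ⟨(g : G), g.2, h2, ?_⟩
  have e1 : ∀ k : ℕ, (g : G) ^ k = (g : G) ↔ k ≡ 1 [MOD 2 ^ (n - 1)] := by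
    intro k
    conv_lhs => rw [← pow_one (g : G), ← pow_mul, one_mul]
    rw [pow_eq_pow_iff_modEq, hog']
  have e2 : ∀ k : ℕ, (g : G) ^ k = (g : G) ^ r ↔ k ≡ r [MOD 2 ^ (n - 1)] := by
    intro k
    rw [pow_eq_pow_iff_modEq, hog']
  rcases hrr with hrr | hrr
  · left
    intro k _
    rw [hk k, e1, e2]
    constructor
    · rintro (h | h)
      · exact Or.inl h
      · exact Or.inr ((h.add_right 1).trans hrr)
    · rintro (h | h)
      · exact Or.inl h
      · exact Or.inr (Nat.ModEq.add_right_cancel' 1 (h.trans hrr.symm))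
  · right
    intro k _
    rw [hk k, e1, e2]
    constructor
    · rintro (h | h)
      · exact Or.inl h
      · exact Or.inr ((h.add_right 1).trans hrr)
    · rintro (h | h)
      · exact Or.inl h
      · exact Or.inr (Nat.ModEq.add_right_cancel' 1 (h.trans hrr.symm))

end Cfsg.Agent.Helper82.FV
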